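import Groth.Agent.DirColim.Basic

/-!
# Descending properties of a base-changed algebra to a stage of a directed colimit
-/

universe u v w x y

namespace Groth.Agent.DirColim

open TensorProduct Polynomial

variable {ι : Type v} {R : Type u} [CommRing R] {G : ι → Type w} [∀ i, CommRing (G i)]
  [∀ i, Algebra R (G i)] {A : Type x} [CommRing A] [Algebra R A]
  {g : ∀ i, G i →ₐ[R] A} {C : Type y} [CommRing C] [Algebra R C]

variable (C) in
/-- The map `G i ⊗ C → G j ⊗ C`. -/
noncomputable abbrev push {i j : ι} (φ : Trans g i j) : G i ⊗[R] C →ₐ[R] G j ⊗[R] C :=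
  Algebra.TensorProduct.map φ.1 (AlgHom.id R C)

lemma rTensor_eq {B B' : Type*} [CommRing B] [Algebra R B] [CommRing B'] [Algebra R B']
    (f : B →ₐ[R] B') (M : Type*) [CommRing M] [Algebra R M] (z : B ⊗[R] M) :
    f.toLinearMap.rTensor M z = Algebra.TensorProduct.map f (AlgHom.id R M) z := by
  induction z using TensorProduct.induction_on with
  | zero => simp
  | tmul a b => simp
  | add a b ha hb => simp only [map_add]; rw [ha, hb]

lemma push_comp {i j k : ι} (ψ : Trans g j k) (φ : Trans g i j) (M : Type*) [CommRing M]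
    [Algebra R M] (z : G i ⊗[R] M) : push M (ψ.comp φ) z = push M ψ (push M φ z) := by
  induction z using TensorProduct.induction_on with
  | zero => simp
  | tmul a b => simp [push, Trans.comp]
  | add a b ha hb => simp only [map_add]; rw [ha, hb]

lemma map_push {i j : ι} (φ : Trans g i j) (M : Type*) [CommRing M]
    [Algebra R M] (z : G i ⊗[R] M) :
    Algebra.TensorProduct.map (g j) (AlgHom.id R M) (push M φ z) =
      Algebra.TensorProduct.map (g i) (AlgHom.id R M) z := by
  induction z using TensorProduct.induction_on with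
  | zero => simp
  | tmul a b => simp [push, φ.apply]
  | add a b ha hb => simp only [map_add]; rw [ha, hb]

/-- An element killed in `A ⊗ M` is killed by a transition map. -/
lemma exists_push_eq_zero (hG : IsColim g) (M : Type*) [CommRing M] [Algebra R M] {i : ι}
    (z : G i ⊗[R] M) (hz : Algebra.TensorProduct.map (g i) (AlgHom.id R M) z = 0) :
    ∃ j, ∃ φ : Trans g i j, push M φ z = 0 := by
  obtain ⟨j, φ, h⟩ := hG.exists_rTensor_eq_zero M i z (by rw [rTensor_eq]; exact hz)
  exact ⟨j, φ, by rwa [rTensor_eq] at h⟩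

/-- Finitely many elements killed in `A ⊗ M` are killed by one transition map. -/
lemma exists_push_eq_zero_finset (hG : IsColim g) (M : Type*) [CommRing M] [Algebra R M]
    {β : Type*} (s : Finset β) {i : ι} (z : β → G i ⊗[R] M)
    (hz : ∀ b ∈ s, Algebra.TensorProduct.map (g i) (AlgHom.id R M) (z b) = 0) :
    ∃ j, ∃ φ : Trans g i j, ∀ b ∈ s, push M φ (z b) = 0 := by
  classical
  induction s using Finset.induction_on with
  | empty => exact ⟨i, ⟨AlgHom.id R (G i), AlgHom.comp_id _⟩, by simp⟩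
  | insert b s hb ih =>
    obtain ⟨j, φ, hφ⟩ := ih fun c hc => hz c (Finset.mem_insert_of_mem hc)
    obtain ⟨k, ψ, hψ⟩ := exists_push_eq_zero hG M (push M φ (z b))
      (by rw [map_push]; exact hz b (Finset.mem_insert_self _ _))
    refine ⟨k, ψ.comp φ, fun c hc => ?_⟩
    rcases Finset.mem_insert.mp hc with rfl | hc
    · rw [push_comp]; exact hψ
    · rw [push_comp, hφ c hc, map_zero]

/-- If the `s` generate `C`, a subalgebra of `B ⊗ C` over `B` with all `1 ⊗ s` is everything. -/
lemma mem_of_one_tmul {B : Type*} [CommRing B] [Algebra R B] {s : Set C}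
    (hs : Algebra.adjoin R s = ⊤) (S : Subalgebra B (B ⊗[R] C))
    (h : ∀ c ∈ s, (1 : B) ⊗ₜ[R] c ∈ S) (z : B ⊗[R] C) : z ∈ S := by
  have h1 : ∀ c : C, (1 : B) ⊗ₜ[R] c ∈ S := by
    intro c
    have hle : Algebra.adjoin R s ≤
        (S.restrictScalars R).comap Algebra.TensorProduct.includeRight :=
      Algebra.adjoin_le fun c hc => h c hc
    exact hle (hs ▸ Algebra.mem_top : c ∈ Algebra.adjoin R s)
  induction z using TensorProduct.induction_on with
  | zero => exact zero_mem _
  | tmul b c =>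
    have := S.smul_mem (h1 c) b
    rwa [smul_tmul', smul_eq_mul, mul_one] at this
  | add a b ha hb => exact add_mem ha hb

/-- Surjectivity descends. -/
theorem exists_surjective [Algebra.FiniteType R C] (hG : IsColim g)
    (h : Function.Surjective (algebraMap A (A ⊗[R] C))) :
    ∃ i, ∀ j, Trans g i j → Function.Surjective (algebraMap (G j) (G j ⊗[R] C)) := by
  obtain ⟨s, hs⟩ := Algebra.FiniteType.out (R := R) (A := C)
  let P : C → ι → Prop := fun c i => ∃ r : G i, r ⊗ₜ[R] (1 : C) = (1 : G i) ⊗ₜ[R] c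
  have mono : ∀ c i j, Trans g i j → P c i → P c j := by
    rintro c i j φ ⟨r, hr⟩
    exact ⟨φ.1 r, by simpa [push] using congrArg (push C φ) hr⟩
  obtain ⟨i, hi⟩ := hG.eventually_forall P mono s fun c _ => by
    obtain ⟨a, ha⟩ := h ((1 : A) ⊗ₜ[R] c)
    obtain ⟨i, r, rfl⟩ := hG.surj a
    rw [Algebra.TensorProduct.algebraMap_apply, Algebra.algebraMap_self, RingHom.id_apply] at ha
    obtain ⟨k, φ', hk⟩ := exists_push_eq_zero hG C (r ⊗ₜ[R] (1 : C) - (1 : G i) ⊗ₜ[R] c)
      (by simp [ha])
    refine ⟨k, φ'.1 r, ?_⟩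
    simpa [push, sub_eq_zero] using hk
  refine ⟨i, fun j φ z => ?_⟩
  have hz : z ∈ (⊥ : Subalgebra (G j) (G j ⊗[R] C)) := mem_of_one_tmul hs ⊥ (fun c hc => by
    obtain ⟨r, hr⟩ := mono c i j φ (hi c hc)
    exact ⟨r, by simpa using hr⟩) z
  exact hz

/-- Finiteness descends. -/
theorem exists_finite [Algebra.FiniteType R C] (hG : IsColim g)
    (h : Module.Finite A (A ⊗[R] C)) : ∃ i, Module.Finite (G i) (G i ⊗[R] C) := by
  classical
  obtain ⟨s, hs⟩ := Algebra.FiniteType.out (R := R) (A := C)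
  let P : C → ι → Prop := fun c i => IsIntegral (G i) ((1 : G i) ⊗ₜ[R] c)
  have mono : ∀ c i j, Trans g i j → P c i → P c j := by
    rintro c i j φ ⟨p, hp, hpc⟩
    refine ⟨p.map φ.1.toRingHom, hp.map _, ?_⟩
    have hcomp : (algebraMap (G j) (G j ⊗[R] C)).comp φ.1.toRingHom =
        (push C φ).toRingHom.comp (algebraMap (G i) (G i ⊗[R] C)) := by
      ext r
      simp [push, Algebra.TensorProduct.algebraMap_apply]
    have h2 : (push C φ) ((1 : G i) ⊗ₜ[R] c) = (1 : G j) ⊗ₜ[R] c := by simp [push]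
    rw [Polynomial.eval₂_map, hcomp, ← h2]
    exact (Polynomial.hom_eval₂ p _ (push C φ).toRingHom _).symm.trans (by rw [hpc, map_zero])
  obtain ⟨i, hi⟩ := hG.eventually_forall P mono s fun c _ => by
    obtain ⟨p, hp, hpc⟩ := IsIntegral.of_finite A ((1 : A) ⊗ₜ[R] c)
    obtain ⟨i, a, ha⟩ := hG.surj_fintype fun l : Fin p.natDegree => p.coeff l
    let x : G i ⊗[R] C := (1 : G i) ⊗ₜ[R] c
    let q : (G i)[X] := X ^ p.natDegree + ∑ l : Fin p.natDegree, Polynomial.C (a l) * X ^ (l : ℕ)
    have hq : q.Monic := monic_X_pow_add (degree_sum_fin_lt a)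
    have hmap : q.map (g i).toRingHom = p := by
      conv_rhs => rw [hp.as_sum]
      simp only [q, Polynomial.map_add, Polynomial.map_pow, Polynomial.map_X, Polynomial.map_sum,
        Polynomial.map_mul, Polynomial.map_C, AlgHom.toRingHom_eq_coe, RingHom.coe_coe, ha]
      congr 1
      exact Fin.sum_univ_eq_sum_range (fun l => Polynomial.C (p.coeff l) * X ^ l) _
    have h0 : (g i).toLinearMap.rTensor C (q.eval₂ (algebraMap (G i) (G i ⊗[R] C)) x) = 0 := by
      have hcomp : (algebraMap A (A ⊗[R] C)).comp (g i).toRingHom =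
          (Algebra.TensorProduct.map (g i) (AlgHom.id R C)).toRingHom.comp
            (algebraMap (G i) (G i ⊗[R] C)) := by
        ext r
        simp [Algebra.TensorProduct.algebraMap_apply]
      have hl : ∀ z : G i ⊗[R] C, (g i).toLinearMap.rTensor C z =
          Algebra.TensorProduct.map (g i) (AlgHom.id R C) z := by
        intro z
        induction z using TensorProduct.induction_on with
        | zero => simp
        | tmul a b => simp
        | add a b ha hb => simp only [map_add]; rw [ha, hb]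
      rw [hl]
      refine (Polynomial.hom_eval₂ q _
        (Algebra.TensorProduct.map (g i) (AlgHom.id R C)).toRingHom x).trans ?_
      rw [← hcomp, ← Polynomial.eval₂_map, hmap]
      simpa [x] using hpc
    obtain ⟨j, φ, hφ⟩ := hG.exists_rTensor_eq_zero C i _ h0
    refine ⟨j, q.map φ.1.toRingHom, hq.map _, ?_⟩
    have hcomp : (algebraMap (G j) (G j ⊗[R] C)).comp φ.1.toRingHom =
        (push C φ).toRingHom.comp (algebraMap (G i) (G i ⊗[R] C)) := by
      ext r
      simp [push, Algebra.TensorProduct.algebraMap_apply]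
    have hl : ∀ z : G i ⊗[R] C, φ.1.toLinearMap.rTensor C z = push C φ z := by
      intro z
      induction z using TensorProduct.induction_on with
      | zero => simp
      | tmul a b => simp [push]
      | add a b ha hb => simp only [map_add]; rw [ha, hb]
    rw [hl] at hφ
    have h2 : (push C φ) x = (1 : G j) ⊗ₜ[R] c := by simp [push, x]
    rw [Polynomial.eval₂_map, hcomp, ← h2]
    exact (Polynomial.hom_eval₂ q _ (push C φ).toRingHom _).symm.trans hφ
  have : Algebra.IsIntegral (G i) (G i ⊗[R] C) :=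
    ⟨fun z => mem_of_one_tmul hs (integralClosure (G i) (G i ⊗[R] C)) hi z⟩
  exact ⟨i, Algebra.IsIntegral.finite⟩

/-- Bijectivity descends. -/
theorem exists_bijective [Algebra.FinitePresentation R C] (hG : IsColim g)
    (h : Function.Bijective (algebraMap A (A ⊗[R] C))) :
    ∃ i, Function.Bijective (algebraMap (G i) (G i ⊗[R] C)) := by
  let e := AlgEquiv.ofBijective (Algebra.ofId A (A ⊗[R] C)) h
  let ψ : C →ₐ[R] A := (e.symm.toAlgHom.restrictScalars R).comp Algebra.TensorProduct.includeRight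
  obtain ⟨i, ψ', -⟩ := hG.exists_lift ψ
  obtain ⟨j, hj⟩ := exists_surjective hG h.surjective
  obtain ⟨k, ⟨φ⟩, ⟨φ'⟩⟩ := hG.directed i j
  refine ⟨k, fun a b hab => ?_, hj k φ'⟩
  have := congrArg
    (Algebra.TensorProduct.lift (AlgHom.id (G k) (G k)) (φ.1.comp ψ') fun _ _ => Commute.all _ _) hab
  simpa [Algebra.TensorProduct.algebraMap_apply] using this

/-- Data witnessing unramifiedness at stage `i`. -/
def UnramAt (g : ∀ i, G i →ₐ[R] A) (s : Set C) (i : ι) : Prop :=
  ∃ u : G i ⊗[R] (C ⊗[R] C),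
    (∀ c ∈ s, (1 : G i) ⊗ₜ[R] ((1 : C) ⊗ₜ[R] c - c ⊗ₜ[R] (1 : C)) * u = 0) ∧
    Algebra.TensorProduct.map (AlgHom.id (G i) (G i)) (Algebra.TensorProduct.lmul' R (S := C)) u = 1

lemma UnramAt.mono {s : Set C} {i j : ι} (φ : Trans g i j) (h : UnramAt g s i) :
    UnramAt g s j := by
  obtain ⟨u, hu, hu1⟩ := h
  refine ⟨push (C ⊗[R] C) φ u, fun c hc => ?_, ?_⟩
  · have := congrArg (push (C ⊗[R] C) φ) (hu c hc)
    rw [map_mul, map_zero] at this
    simpa [push] using this
  · have : ∀ z : G i ⊗[R] (C ⊗[R] C),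
        Algebra.TensorProduct.map (AlgHom.id (G j) (G j)) (Algebra.TensorProduct.lmul' R (S := C))
          (push (C ⊗[R] C) φ z) =
        push C φ (Algebra.TensorProduct.map (AlgHom.id (G i) (G i))
          (Algebra.TensorProduct.lmul' R (S := C)) z) := by
      intro z
      induction z using TensorProduct.induction_on with
      | zero => simp
      | tmul a b => simp [push]
      | add a b ha hb => simp only [map_add]; rw [ha, hb]
    rw [this, hu1, map_one]

/-- The map `B ⊗ (C ⊗ C) → (B ⊗ C) ⊗[B] (B ⊗ C)`. -/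
noncomputable def tensorSquare (B : Type*) [CommRing B] [Algebra R B] :
    B ⊗[R] (C ⊗[R] C) →ₐ[B] (B ⊗[R] C) ⊗[B] (B ⊗[R] C) :=
  Algebra.TensorProduct.lift (Algebra.ofId _ _)
    (Algebra.TensorProduct.lift
      (((Algebra.TensorProduct.includeLeft : B ⊗[R] C →ₐ[B] (B ⊗[R] C) ⊗[B] (B ⊗[R] C)).restrictScalars
          R).comp Algebra.TensorProduct.includeRight)
      (((Algebra.TensorProduct.includeRight : B ⊗[R] C →ₐ[B] (B ⊗[R] C) ⊗[B] (B ⊗[R] C)).restrictScalars
          R).comp Algebra.TensorProduct.includeRight)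
      fun _ _ => Commute.all _ _)
    fun _ _ => Commute.all _ _

lemma UnramAt.formallyUnramified [Algebra.FiniteType R C] {s : Set C}
    (hs : Algebra.adjoin R s = ⊤) {i : ι} (h : UnramAt g s i) :
    Algebra.FormallyUnramified (G i) (G i ⊗[R] C) := by
  obtain ⟨u, hu, hu1⟩ := h
  let B := G i
  let Θ := tensorSquare (R := R) (C := C) (G i)
  rw [Algebra.FormallyUnramified.iff_exists_tensorProduct]
  refine ⟨Θ u, ?_, ?_⟩
  · intro z
    let S : Subalgebra (G i) (G i ⊗[R] C) :=
      { carrier := {z | ((1 : G i ⊗[R] C) ⊗ₜ[G i] z - z ⊗ₜ[G i] (1 : G i ⊗[R] C)) * Θ u = 0}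
        mul_mem' := by
          intro a b ha hb
          simp only [Set.mem_setOf_eq] at ha hb ⊢
          have : (1 : G i ⊗[R] C) ⊗ₜ[G i] (a * b) - (a * b) ⊗ₜ[G i] (1 : G i ⊗[R] C) =
              ((1 : G i ⊗[R] C) ⊗ₜ[G i] a) * ((1 : G i ⊗[R] C) ⊗ₜ[G i] b - b ⊗ₜ[G i] 1) +
              (b ⊗ₜ[G i] (1 : G i ⊗[R] C)) * ((1 : G i ⊗[R] C) ⊗ₜ[G i] a - a ⊗ₜ[G i] 1) := by
            simp only [mul_sub, Algebra.TensorProduct.tmul_mul_tmul, one_mul, mul_one]
            rw [mul_comm b a]
            abel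
          rw [this, add_mul, mul_assoc, mul_assoc, hb, ha, mul_zero, mul_zero, add_zero]
        one_mem' := by simp
        add_mem' := by
          intro a b ha hb
          simp only [Set.mem_setOf_eq] at ha hb ⊢
          rw [TensorProduct.tmul_add, TensorProduct.add_tmul, add_sub_add_comm, add_mul, ha, hb,
            add_zero]
        zero_mem' := by simp
        algebraMap_mem' := by
          intro r
          simp only [Set.mem_setOf_eq]
          rw [Algebra.algebraMap_eq_smul_one, TensorProduct.tmul_smul, ← TensorProduct.smul_tmul',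
            sub_self, zero_mul] }
    refine mem_of_one_tmul hs S (fun c hc => ?_) z
    have := congrArg Θ (hu c hc)
    rw [map_mul, map_zero] at this
    show ((1 : G i ⊗[R] C) ⊗ₜ[G i] ((1 : G i) ⊗ₜ[R] c)
      - ((1 : G i) ⊗ₜ[R] c) ⊗ₜ[G i] (1 : G i ⊗[R] C)) * Θ u = 0
    rw [← this]
    congr 1
    simp [Θ, tensorSquare, TensorProduct.tmul_sub, Algebra.TensorProduct.one_def]
  · have : ∀ z : G i ⊗[R] (C ⊗[R] C), Algebra.TensorProduct.lmul' (G i) (Θ z) =
        Algebra.TensorProduct.map (AlgHom.id (G i) (G i))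
          (Algebra.TensorProduct.lmul' R (S := C)) z := by
      intro z
      induction z using TensorProduct.induction_on with
      | zero => simp
      | tmul a b =>
        induction b using TensorProduct.induction_on with
        | zero => simp
        | tmul b b' => simp [Θ, tensorSquare, Algebra.TensorProduct.algebraMap_apply]
        | add b b' hb hb' => simp only [TensorProduct.tmul_add, map_add]; rw [hb, hb']
      | add a b ha hb => simp only [map_add]; rw [ha, hb]
    rw [this, hu1]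

/-- Unramifiedness descends. -/
theorem exists_unramAt [Algebra.FiniteType R C] (hG : IsColim g) (s : Finset C)
    (h : Algebra.FormallyUnramified A (A ⊗[R] C)) : ∃ i, UnramAt g (↑s : Set C) i := by
  classical
  obtain ⟨t, ht, ht1⟩ := Algebra.FormallyUnramified.iff_exists_tensorProduct.mp h
  let Ψ : (A ⊗[R] C) ⊗[A] (A ⊗[R] C) →ₐ[A] A ⊗[R] (C ⊗[R] C) :=
    Algebra.TensorProduct.productMap
      (Algebra.TensorProduct.map (AlgHom.id A A) Algebra.TensorProduct.includeLeft)
      (Algebra.TensorProduct.map (AlgHom.id A A) Algebra.TensorProduct.includeRight)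
  obtain ⟨i, u, hu⟩ := hG.exists_rTensor_eq (C ⊗[R] C) (Ψ t)
  let gC := Algebra.TensorProduct.map (g i) (AlgHom.id R C)
  let gCC := Algebra.TensorProduct.map (g i) (AlgHom.id R (C ⊗[R] C))
  have hgu : gCC u = Ψ t := by
    rw [← hu, rTensor_eq]
  have h1 : ∀ c, gCC ((1 : G i) ⊗ₜ[R] ((1 : C) ⊗ₜ[R] c - c ⊗ₜ[R] (1 : C)) * u) = 0 := by
    intro c
    rw [map_mul, hgu]
    have h3 := congrArg Ψ (ht ((1 : A) ⊗ₜ[R] c))
    rw [map_mul, map_zero] at h3
    refine Eq.trans ?_ h3
    congr 1
    simp [gCC, Ψ, TensorProduct.tmul_sub, Algebra.TensorProduct.one_def]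
  have h2 : gC (Algebra.TensorProduct.map (AlgHom.id (G i) (G i))
      (Algebra.TensorProduct.lmul' R (S := C)) u) = gC 1 := by
    have hnat : ∀ z : G i ⊗[R] (C ⊗[R] C), gC (Algebra.TensorProduct.map (AlgHom.id (G i) (G i))
        (Algebra.TensorProduct.lmul' R (S := C)) z) =
        Algebra.TensorProduct.map (AlgHom.id A A)
          (Algebra.TensorProduct.lmul' R (S := C)) (gCC z) := by
      intro z
      induction z using TensorProduct.induction_on with
      | zero => simp
      | tmul a b => simp [gC, gCC]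
      | add a b ha hb => simp only [map_add]; rw [ha, hb]
    have hΨ : ∀ z, Algebra.TensorProduct.map (AlgHom.id A A)
        (Algebra.TensorProduct.lmul' R (S := C)) (Ψ z) = Algebra.TensorProduct.lmul' A z := by
      intro z
      induction z using TensorProduct.induction_on with
      | zero => simp
      | tmul a b =>
        induction a using TensorProduct.induction_on with
        | zero => simp
        | tmul a c =>
          induction b using TensorProduct.induction_on with
          | zero => simp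
          | tmul b c' => simp [Ψ]
          | add b b' hb hb' => simp only [TensorProduct.tmul_add, map_add]; rw [hb, hb']
        | add a a' ha ha' => simp only [TensorProduct.add_tmul, map_add]; rw [ha, ha']
      | add a b ha hb => simp only [map_add]; rw [ha, hb]
    rw [hnat, hgu, hΨ, ht1, map_one]
  obtain ⟨k₁, φ₁, hk₁⟩ := exists_push_eq_zero hG C
    (Algebra.TensorProduct.map (AlgHom.id (G i) (G i))
      (Algebra.TensorProduct.lmul' R (S := C)) u - 1) (by rw [map_sub]; exact sub_eq_zero.mpr h2)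
  obtain ⟨k, χ, hχ⟩ := exists_push_eq_zero_finset hG (C ⊗[R] C) s
    (fun c => push (C ⊗[R] C) φ₁ ((1 : G i) ⊗ₜ[R] ((1 : C) ⊗ₜ[R] c - c ⊗ₜ[R] (1 : C)) * u))
    (fun c _ => by rw [map_push]; exact h1 c)
  let φ' := χ.comp φ₁
  have hs' : ∀ c ∈ s, push (C ⊗[R] C) φ'
      ((1 : G i) ⊗ₜ[R] ((1 : C) ⊗ₜ[R] c - c ⊗ₜ[R] (1 : C)) * u) = 0 := fun c hc => by
    rw [push_comp]; exact hχ c hc
  have h1' : push C φ' (Algebra.TensorProduct.map (AlgHom.id (G i) (G i))
      (Algebra.TensorProduct.lmul' R (S := C)) u - 1) = 0 := by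
    rw [push_comp, hk₁, map_zero]
  refine ⟨k, push (C ⊗[R] C) φ' u, fun c hc => ?_, ?_⟩
  · have := hs' c (Finset.mem_coe.mp hc)
    rw [map_mul] at this
    simpa [push] using this
  · have hnat : ∀ z : G i ⊗[R] (C ⊗[R] C),
        Algebra.TensorProduct.map (AlgHom.id (G k) (G k)) (Algebra.TensorProduct.lmul' R (S := C))
          (push (C ⊗[R] C) φ' z) =
        push C φ' (Algebra.TensorProduct.map (AlgHom.id (G i) (G i))
          (Algebra.TensorProduct.lmul' R (S := C)) z) := by
      intro z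
      induction z using TensorProduct.induction_on with
      | zero => simp
      | tmul a b => simp [push]
      | add a b ha hb => simp only [map_add]; rw [ha, hb]
    rw [hnat]
    rwa [map_sub, map_one, sub_eq_zero] at h1'

theorem exists_unramified [Algebra.FiniteType R C] (hG : IsColim g)
    (h : Algebra.Unramified A (A ⊗[R] C)) :
    ∃ i, Algebra.Unramified (G i) (G i ⊗[R] C) := by
  obtain ⟨s, hs⟩ := Algebra.FiniteType.out (R := R) (A := C)
  obtain ⟨i, hi⟩ := exists_unramAt hG s h.formallyUnramified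
  exact ⟨i, { formallyUnramified := hi.formallyUnramified hs, finiteType := inferInstance }⟩

/-- Data witnessing smoothness at stage `i`, for a presentation `π`. -/
def SmoothAt (g : ∀ i, G i →ₐ[R] A) {n : ℕ} (π : MvPolynomial (Fin n) R →ₐ[R] C) (i : ι) :
    Prop :=
  ∃ ψ : C →ₐ[R] G i ⊗[R] (MvPolynomial (Fin n) R ⧸ RingHom.ker π.toRingHom ^ 2),
    (Algebra.TensorProduct.map (AlgHom.id R (G i)) π.kerSquareLift).comp ψ =
      Algebra.TensorProduct.includeRight

lemma SmoothAt.mono {n : ℕ} {π : MvPolynomial (Fin n) R →ₐ[R] C} {i j : ι}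
    (φ : Trans g i j) (h : SmoothAt g π i) : SmoothAt g π j := by
  obtain ⟨ψ, hψ⟩ := h
  refine ⟨(Algebra.TensorProduct.map φ.1 (AlgHom.id R _)).comp ψ, ?_⟩
  rw [← AlgHom.comp_assoc, ← Algebra.TensorProduct.map_comp]
  simp only [AlgHom.id_comp, AlgHom.comp_id]
  rw [show Algebra.TensorProduct.map φ.1 π.kerSquareLift =
    (Algebra.TensorProduct.map φ.1 (AlgHom.id R C)).comp
      (Algebra.TensorProduct.map (AlgHom.id R (G i)) π.kerSquareLift) by
      rw [← Algebra.TensorProduct.map_comp, AlgHom.comp_id, AlgHom.id_comp],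
    AlgHom.comp_assoc, hψ]
  ext c
  simp

lemma SmoothAt.formallySmooth {n : ℕ} {π : MvPolynomial (Fin n) R →ₐ[R] C}
    {i : ι} (h : SmoothAt g π i) :
    Algebra.FormallySmooth (G i) (G i ⊗[R] C) := by
  obtain ⟨ψ, hψ⟩ := h
  let F : G i ⊗[R] MvPolynomial (Fin n) R →ₐ[G i] G i ⊗[R] C :=
    Algebra.TensorProduct.map (AlgHom.id (G i) (G i)) π
  let J := RingHom.ker F.toRingHom ^ 2
  let incl : MvPolynomial (Fin n) R →ₐ[R] G i ⊗[R] MvPolynomial (Fin n) R :=
    Algebra.TensorProduct.includeRight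
  have hle : RingHom.ker π.toRingHom ^ 2 ≤ J.comap incl := by
    refine le_trans (Ideal.pow_right_mono ?_ 2) (Ideal.le_comap_pow _ 2)
    intro p hp
    simp only [AlgHom.toRingHom_eq_coe, RingHom.mem_ker, RingHom.coe_coe] at hp
    simp [incl, F, hp]
  have hc1 : ∀ x y : (G i ⊗[R] MvPolynomial (Fin n) R) ⧸ J, x * y = y * x :=
    fun x y => mul_comm x y
  have hc2 : ∀ x y : G i ⊗[R] (MvPolynomial (Fin n) R ⧸ RingHom.ker π.toRingHom ^ 2),
      x * y = y * x := fun x y => mul_comm x y
  let T : (G i ⊗[R] (MvPolynomial (Fin n) R ⧸ RingHom.ker π.toRingHom ^ 2)) →ₐ[G i]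
      (G i ⊗[R] MvPolynomial (Fin n) R) ⧸ J :=
    Algebra.TensorProduct.lift (Algebra.ofId _ _) (Ideal.quotientMapₐ J incl hle)
      fun _ _ => hc1 _ _
  let σ : G i ⊗[R] C →ₐ[G i] (G i ⊗[R] MvPolynomial (Fin n) R) ⧸ J :=
    T.comp (Algebra.TensorProduct.lift (Algebra.ofId _ _) ψ
      fun _ _ => hc2 _ _)
  refine Algebra.FormallySmooth.of_split F σ ?_
  have hT : ∀ z, F.kerSquareLift (T z) =
      Algebra.TensorProduct.map (AlgHom.id R (G i)) π.kerSquareLift z := by
    intro z
    induction z using TensorProduct.induction_on with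
    | zero => simp [-AlgHom.toRingHom_eq_coe]
    | tmul a q =>
      obtain ⟨q, rfl⟩ := Ideal.Quotient.mk_surjective q
      have h1 : T (a ⊗ₜ[R] Ideal.Quotient.mk _ q) = Ideal.Quotient.mk J (a ⊗ₜ[R] q) := by
        have e1 : (Ideal.quotientMapₐ J incl hle)
            (Ideal.Quotient.mk (RingHom.ker π.toRingHom ^ 2) q) = Ideal.Quotient.mk J (incl q) :=
          rfl
        simp only [T, Algebra.TensorProduct.lift_tmul, e1, Algebra.ofId_apply]
        rw [show algebraMap (G i) ((G i ⊗[R] MvPolynomial (Fin n) R) ⧸ J) a =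
          Ideal.Quotient.mk J (a ⊗ₜ 1) from rfl, ← map_mul]
        simp [-AlgHom.toRingHom_eq_coe, incl]
      rw [h1, AlgHom.kerSquareLift_mk, Algebra.TensorProduct.map_tmul]
      rw [Algebra.TensorProduct.map_tmul, AlgHom.kerSquareLift_mk]
      rfl
    | add a b ha hb => simp only [map_add]; rw [ha, hb]
  apply Algebra.TensorProduct.ext'
  intro a c
  simp only [AlgHom.comp_apply, σ, hT, Algebra.TensorProduct.lift_tmul, map_mul, AlgHom.id_apply,
    Algebra.ofId_apply]
  rw [show Algebra.TensorProduct.map (AlgHom.id R (G i)) π.kerSquareLift (ψ c) = _ from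
    AlgHom.congr_fun hψ c]
  simp [-AlgHom.toRingHom_eq_coe, Algebra.TensorProduct.algebraMap_apply]

/-- Smoothness descends. -/
theorem exists_smoothAt (hG : IsColim g) [Algebra.FinitePresentation R C] {n : ℕ}
    (π : MvPolynomial (Fin n) R →ₐ[R] C) (hπ : Function.Surjective π)
    (h : Algebra.FormallySmooth A (A ⊗[R] C)) : ∃ i, SmoothAt g π i := by
  let F : A ⊗[R] MvPolynomial (Fin n) R →ₐ[A] A ⊗[R] C :=
    Algebra.TensorProduct.map (AlgHom.id A A) π
  have hF : Function.Surjective F := by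
    intro z
    induction z using TensorProduct.induction_on with
    | zero => exact ⟨0, map_zero _⟩
    | tmul a c =>
      obtain ⟨p, rfl⟩ := hπ c
      exact ⟨a ⊗ₜ p, by simp [F]⟩
    | add a b ha hb =>
      obtain ⟨x, rfl⟩ := ha
      obtain ⟨y, rfl⟩ := hb
      exact ⟨x + y, map_add _ _ _⟩
  obtain ⟨σ, hσ⟩ := (Algebra.FormallySmooth.iff_split_surjection F hF).mp h
  let Q₀ : A ⊗[R] MvPolynomial (Fin n) R →ₐ[A]
      A ⊗[R] (MvPolynomial (Fin n) R ⧸ RingHom.ker π.toRingHom ^ 2) :=
    Algebra.TensorProduct.map (AlgHom.id A A) (Ideal.Quotient.mkₐ R _)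
  have hker : RingHom.ker F.toRingHom ^ 2 ≤ RingHom.ker Q₀.toRingHom := by
    have e : RingHom.ker F.toRingHom = (RingHom.ker π).map
        (Algebra.TensorProduct.includeRight (R := R) (A := A)) :=
      Algebra.TensorProduct.lTensor_ker (A := A) π hπ
    rw [e, ← Ideal.map_pow, Ideal.map_le_iff_le_comap]
    intro p hp
    have hp' : (Ideal.Quotient.mk (RingHom.ker π.toRingHom ^ 2)) p = 0 :=
      Ideal.Quotient.eq_zero_iff_mem.mpr hp
    change Q₀ ((1 : A) ⊗ₜ[R] p) = 0
    simp [-AlgHom.toRingHom_eq_coe, Q₀, hp']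
  let Q : (A ⊗[R] MvPolynomial (Fin n) R) ⧸ RingHom.ker F.toRingHom ^ 2 →ₐ[A]
      A ⊗[R] (MvPolynomial (Fin n) R ⧸ RingHom.ker π.toRingHom ^ 2) :=
    Ideal.Quotient.liftₐ _ Q₀ fun x hx => hker hx
  let ψ : C →ₐ[R] A ⊗[R] (MvPolynomial (Fin n) R ⧸ RingHom.ker π.toRingHom ^ 2) :=
    ((Q.comp σ).restrictScalars R).comp Algebra.TensorProduct.includeRight
  have hQ : ∀ y, Algebra.TensorProduct.map (AlgHom.id R A) π.kerSquareLift (Q y) =
      F.kerSquareLift y := by
    intro y
    obtain ⟨z, rfl⟩ := Ideal.Quotient.mk_surjective y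
    change Algebra.TensorProduct.map (AlgHom.id R A) π.kerSquareLift (Q₀ z) = F z
    induction z using TensorProduct.induction_on with
    | zero => simp [-AlgHom.toRingHom_eq_coe]
    | tmul a b => simp [-AlgHom.toRingHom_eq_coe, Q₀, F, AlgHom.kerSquareLift_mk]
    | add a b ha hb => simp only [map_add]; rw [ha, hb]
  obtain ⟨i, ψ', hψ'⟩ := (hG.tensorRight _).exists_lift ψ
  obtain ⟨s, hs⟩ := Algebra.FiniteType.out (R := R) (A := C)
  let d : C → G i ⊗[R] C := fun c =>
    Algebra.TensorProduct.map (AlgHom.id R (G i)) π.kerSquareLift (ψ' c) - (1 : G i) ⊗ₜ[R] c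
  have hd : ∀ c, Algebra.TensorProduct.map (g i) (AlgHom.id R C) (d c) = 0 := by
    intro c
    have hnat : ∀ z, Algebra.TensorProduct.map (g i) (AlgHom.id R C)
        (Algebra.TensorProduct.map (AlgHom.id R (G i)) π.kerSquareLift z) =
      Algebra.TensorProduct.map (AlgHom.id R A) π.kerSquareLift
        (Algebra.TensorProduct.map (g i) (AlgHom.id R _) z) := by
      intro z
      induction z using TensorProduct.induction_on with
      | zero => simp [-AlgHom.toRingHom_eq_coe]
      | tmul a b => simp [-AlgHom.toRingHom_eq_coe]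
      | add a b ha hb => simp only [map_add]; rw [ha, hb]
    rw [map_sub, hnat, show Algebra.TensorProduct.map (g i) (AlgHom.id R _) (ψ' c) = ψ c from
      AlgHom.congr_fun hψ' c, sub_eq_zero]
    simp only [ψ, AlgHom.comp_apply, AlgHom.restrictScalars_apply,
      Algebra.TensorProduct.includeRight_apply, hQ, Algebra.TensorProduct.map_tmul, map_one,
      AlgHom.id_apply]
    exact AlgHom.congr_fun hσ ((1 : A) ⊗ₜ[R] c)
  obtain ⟨k, φ, hφ⟩ := exists_push_eq_zero_finset hG C s d fun c _ => hd c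
  refine ⟨k, (Algebra.TensorProduct.map φ.1 (AlgHom.id R _)).comp ψ', ?_⟩
  refine AlgHom.ext_of_adjoin_eq_top hs fun c hc => ?_
  have hnat : ∀ z, Algebra.TensorProduct.map (AlgHom.id R (G k)) π.kerSquareLift
      (Algebra.TensorProduct.map φ.1 (AlgHom.id R _) z) =
    push C φ (Algebra.TensorProduct.map (AlgHom.id R (G i)) π.kerSquareLift z) := by
    intro z
    induction z using TensorProduct.induction_on with
    | zero => simp [-AlgHom.toRingHom_eq_coe]
    | tmul a b => simp [-AlgHom.toRingHom_eq_coe, push]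
    | add a b ha hb => simp only [map_add]; rw [ha, hb]
  rw [AlgHom.comp_apply, AlgHom.comp_apply, hnat]
  have := hφ c (Finset.mem_coe.mp hc)
  rw [map_sub, sub_eq_zero] at this
  rw [this]
  simp [push]

theorem exists_smooth [Algebra.FinitePresentation R C] (hG : IsColim g)
    (h : Algebra.Smooth A (A ⊗[R] C)) : ∃ i, Algebra.Smooth (G i) (G i ⊗[R] C) := by
  obtain ⟨n, π, hπ, -⟩ := Algebra.FinitePresentation.out (R := R) (A := C)
  obtain ⟨i, hi⟩ := exists_smoothAt hG π hπ h.formallySmooth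
  exact ⟨i, { formallySmooth := hi.formallySmooth, finitePresentation := inferInstance }⟩

theorem exists_etale [Algebra.FinitePresentation R C] (hG : IsColim g)
    (h : Algebra.Etale A (A ⊗[R] C)) : ∃ i, Algebra.Etale (G i) (G i ⊗[R] C) := by
  obtain ⟨n, π, hπ, -⟩ := Algebra.FinitePresentation.out (R := R) (A := C)
  obtain ⟨s, hs⟩ := Algebra.FiniteType.out (R := R) (A := C)
  have := h.formallyEtale
  obtain ⟨i, hi⟩ := exists_smoothAt hG π hπ inferInstance
  obtain ⟨j, hj⟩ := exists_unramAt hG s inferInstance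
  obtain ⟨k, ⟨φ⟩, ⟨φ'⟩⟩ := hG.directed i j
  have h1 := (hi.mono φ).formallySmooth
  have h2 := (hj.mono φ').formallyUnramified hs
  have h3 := Algebra.FormallyEtale.of_formallyUnramified_and_formallySmooth (R := G k)
    (A := G k ⊗[R] C)
  exact ⟨k, ⟨h3, inferInstance⟩⟩

end Groth.Agent.DirColim
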