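import Mathlib

/-!
# Directed colimits of algebras, element-wise

`IsColim R G A g` says that the algebras `G i` with the maps `g i : G i → A` exhibit `A` as a
filtered colimit, the transition maps being all algebra maps compatible with `g`.
This notion is closed under tensor products.
-/

universe u v w x

namespace Groth.Agent.DirColim

open TensorProduct

variable {ι : Type v} {R : Type u} [CommRing R] {G : ι → Type w} [∀ i, CommRing (G i)]
  [∀ i, Algebra R (G i)] {A : Type x} [CommRing A] [Algebra R A]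

/-- A transition map: an algebra map between stages compatible with the maps to the colimit. -/
abbrev Trans (g : ∀ i, G i →ₐ[R] A) (i j : ι) : Type w := {φ : G i →ₐ[R] G j // (g j).comp φ = g i}

lemma Trans.apply {g : ∀ i, G i →ₐ[R] A} {i j : ι} (φ : Trans g i j) (x : G i) :
    g j (φ.1 x) = g i x := AlgHom.congr_fun φ.2 x

/-- Composition of transition maps. -/
def Trans.comp {g : ∀ i, G i →ₐ[R] A} {i j k : ι} (ψ : Trans g j k) (φ : Trans g i j) :
    Trans g i k :=
  ⟨ψ.1.comp φ.1, by rw [← AlgHom.comp_assoc, ψ.2, φ.2]⟩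

structure IsColim (g : ∀ i, G i →ₐ[R] A) : Prop where
  surj : ∀ a, ∃ i x, g i x = a
  directed : ∀ i j, ∃ k, Nonempty (Trans g i k) ∧ Nonempty (Trans g j k)
  ker : ∀ i x, g i x = 0 → ∃ j, ∃ φ : Trans g i j, φ.1 x = 0

/-- The input format used in the statements. -/
theorem IsColim.of_system [Preorder ι] [IsDirected ι (· ≤ ·)]
    (f : ∀ i j, i ≤ j → (G i →ₐ[R] G j)) (g : ∀ i, G i →ₐ[R] A)
    (hg : ∀ i j (h : i ≤ j), (g j).comp (f i j h) = g i)
    (hsurj : ∀ a : A, ∃ i, ∃ x : G i, g i x = a)
    (hker : ∀ i (x : G i), g i x = 0 → ∃ j, ∃ h : i ≤ j, f i j h x = 0) : IsColim g where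
  surj := hsurj
  directed i j := by
    obtain ⟨k, hi, hj⟩ := exists_ge_ge i j
    exact ⟨k, ⟨⟨f i k hi, hg i k hi⟩⟩, ⟨⟨f j k hj, hg j k hj⟩⟩⟩
  ker i x hx := by
    obtain ⟨j, h, hj⟩ := hker i x hx
    exact ⟨j, ⟨f i j h, hg i j h⟩, hj⟩

namespace IsColim

variable {g : ∀ i, G i →ₐ[R] A}

theorem ker_finset (hG : IsColim g) {β : Type*} (s : Finset β) (i : ι) (x : β → G i)
    (hx : ∀ b ∈ s, g i (x b) = 0) : ∃ j, ∃ φ : Trans g i j, ∀ b ∈ s, φ.1 (x b) = 0 := by
  classical
  induction s using Finset.induction_on with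
  | empty => exact ⟨i, ⟨AlgHom.id R (G i), AlgHom.comp_id _⟩, by simp⟩
  | insert b s hb ih =>
    obtain ⟨j, φ, hφ⟩ := ih fun c hc => hx c (Finset.mem_insert_of_mem hc)
    obtain ⟨k, ψ, hψ⟩ := hG.ker j (φ.1 (x b))
      (by rw [φ.apply, hx b (Finset.mem_insert_self _ _)])
    refine ⟨k, ψ.comp φ, fun c hc => ?_⟩
    rcases Finset.mem_insert.mp hc with rfl | hc
    · exact hψ
    · exact (congrArg ψ.1 (hφ c hc)).trans (map_zero _)

theorem eq_of_apply_eq (hG : IsColim g) (i : ι) (x y : G i) (h : g i x = g i y) :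
    ∃ j, ∃ φ : Trans g i j, φ.1 x = φ.1 y := by
  obtain ⟨j, φ, hφ⟩ := hG.ker i (x - y) (by rw [map_sub, h, sub_self])
  exact ⟨j, φ, by rwa [map_sub, sub_eq_zero] at hφ⟩

/-- Finitely many eventual properties hold simultaneously. -/
theorem eventually_forall (hG : IsColim g) {β : Type*} (P : β → ι → Prop)
    (mono : ∀ b i j, Trans g i j → P b i → P b j) (s : Finset β)
    (h : ∀ b ∈ s, ∃ i, P b i) : ∃ i, ∀ b ∈ s, P b i := by
  classical
  induction s using Finset.induction_on with
  | empty =>
    obtain ⟨i, _⟩ := hG.surj 0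
    exact ⟨i, by simp⟩
  | insert b s hb ih =>
    obtain ⟨i, hi⟩ := ih fun c hc => h c (Finset.mem_insert_of_mem hc)
    obtain ⟨j, hj⟩ := h b (Finset.mem_insert_self _ _)
    obtain ⟨k, ⟨φ⟩, ⟨ψ⟩⟩ := hG.directed i j
    refine ⟨k, fun c hc => ?_⟩
    rcases Finset.mem_insert.mp hc with rfl | hc
    · exact mono _ _ _ ψ hj
    · exact mono _ _ _ φ (hi c hc)

theorem surj_fintype (hG : IsColim g) {β : Type*} [Fintype β] (a : β → A) :
    ∃ i, ∃ x : β → G i, ∀ b, g i (x b) = a b := by
  obtain ⟨i, hi⟩ := hG.eventually_forall (fun b i => ∃ x, g i x = a b)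
    (fun b i j φ ⟨x, hx⟩ => ⟨φ.1 x, by rw [φ.apply, hx]⟩) Finset.univ fun b _ => hG.surj (a b)
  choose x hx using fun b => hi b (Finset.mem_univ b)
  exact ⟨i, x, hx⟩

/-- Maps out of a finitely presented algebra lift to some stage. -/
theorem exists_lift (hG : IsColim g) {C : Type*} [CommRing C] [Algebra R C]
    [Algebra.FinitePresentation R C] (ψ : C →ₐ[R] A) :
    ∃ i, ∃ ψ' : C →ₐ[R] G i, (g i).comp ψ' = ψ := by
  obtain ⟨n, π, hπ, s, hs⟩ := Algebra.FinitePresentation.out (R := R) (A := C)
  obtain ⟨i, x, hx⟩ := hG.surj_fintype fun k => ψ (π (MvPolynomial.X k))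
  let θ : MvPolynomial (Fin n) R →ₐ[R] G i := MvPolynomial.aeval x
  have hθ : (g i).comp θ = ψ.comp π := MvPolynomial.algHom_ext fun k => by simp [θ, hx]
  obtain ⟨j, φ, hφ⟩ := hG.ker_finset s i θ fun q hq => by
    have h1 := AlgHom.congr_fun hθ q
    have h2 : π q = 0 := RingHom.mem_ker.mp
      (show q ∈ RingHom.ker π.toRingHom from hs ▸ Ideal.subset_span hq)
    simpa [h2] using h1
  have hle : RingHom.ker π ≤ RingHom.ker (φ.1.comp θ) := by
    change RingHom.ker π.toRingHom ≤ _
    rw [← hs, Ideal.span_le]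
    exact fun q hq => hφ q hq
  refine ⟨j, AlgHom.liftOfSurjective π hπ (φ.1.comp θ) hle, ?_⟩
  refine AlgHom.ext fun c => ?_
  obtain ⟨q, rfl⟩ := hπ c
  rw [AlgHom.comp_apply, AlgHom.liftOfSurjective_apply, AlgHom.comp_apply, φ.apply]
  exact AlgHom.congr_fun hθ q

theorem exists_tensor_eq (hG : IsColim g) (M : Type*) [AddCommGroup M] [Module R M]
    (z : M ⊗[R] A) : ∃ i, ∃ x : M ⊗[R] G i, (g i).toLinearMap.lTensor M x = z := by
  induction z using TensorProduct.induction_on with
  | zero => obtain ⟨i, _⟩ := hG.surj 0; exact ⟨i, 0, map_zero _⟩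
  | tmul m a =>
    obtain ⟨i, y, rfl⟩ := hG.surj a
    exact ⟨i, m ⊗ₜ y, rfl⟩
  | add a b ha hb =>
    obtain ⟨i, x, rfl⟩ := ha
    obtain ⟨j, y, rfl⟩ := hb
    obtain ⟨k, ⟨φ⟩, ⟨ψ⟩⟩ := hG.directed i j
    refine ⟨k, φ.1.toLinearMap.lTensor M x + ψ.1.toLinearMap.lTensor M y, ?_⟩
    rw [map_add, ← LinearMap.lTensor_comp_apply, ← LinearMap.lTensor_comp_apply]
    congr 2
    · exact congrArg (LinearMap.lTensor M) (congrArg AlgHom.toLinearMap φ.2)
    · exact congrArg (LinearMap.lTensor M) (congrArg AlgHom.toLinearMap ψ.2)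

private lemma lTensor_trans {i j : ι} (φ : Trans g i j) (M : Type*) [AddCommMonoid M]
    [Module R M] (x : M ⊗[R] G i) :
    (g j).toLinearMap.lTensor M (φ.1.toLinearMap.lTensor M x) =
      (g i).toLinearMap.lTensor M x := by
  rw [← LinearMap.lTensor_comp_apply]
  exact LinearMap.congr_fun (congrArg (LinearMap.lTensor M) (congrArg AlgHom.toLinearMap φ.2)) x

/-- An element vanishing in the tensor product with the colimit vanishes at some stage. -/
theorem exists_tensor_eq_zero (hG : IsColim g) (M : Type*) [AddCommGroup M] [Module R M]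
    (i : ι) (x : M ⊗[R] G i) (hx : (g i).toLinearMap.lTensor M x = 0) :
    ∃ j, ∃ φ : Trans g i j, φ.1.toLinearMap.lTensor M x = 0 := by
  classical
  let π : (M →₀ R) →ₗ[R] M := Finsupp.linearCombination R id
  have hπ : Function.Surjective π := fun m => ⟨Finsupp.single m 1, by simp [π]⟩
  have hex : Function.Exact ((LinearMap.ker π).subtype.rTensor A) (π.rTensor A) :=
    by
      have hf : Function.Exact (LinearMap.ker π).subtype π := LinearMap.exact_subtype_ker_map π
      exact rTensor_exact (M := LinearMap.ker π) A hf hπ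
  obtain ⟨y, rfl⟩ := LinearMap.rTensor_surjective (G i) hπ x
  have h1 : π.rTensor A ((g i).toLinearMap.lTensor (M →₀ R) y) = 0 := by
    rw [← LinearMap.comp_apply, LinearMap.rTensor_comp_lTensor, ← LinearMap.lTensor_comp_rTensor]
    exact hx
  obtain ⟨z, hz⟩ := (hex _).mp h1
  obtain ⟨k, w, hw⟩ := hG.exists_tensor_eq (LinearMap.ker π) z
  obtain ⟨l, ⟨φ⟩, ⟨ψ⟩⟩ := hG.directed i k
  let d : (M →₀ R) ⊗[R] G l := φ.1.toLinearMap.lTensor (M →₀ R) y -
    (LinearMap.ker π).subtype.rTensor (G l) (ψ.1.toLinearMap.lTensor _ w)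
  have hd : (g l).toLinearMap.lTensor (M →₀ R) d = 0 := by
    simp only [d, map_sub, lTensor_trans φ]
    rw [← LinearMap.comp_apply, LinearMap.lTensor_comp_rTensor, ← LinearMap.rTensor_comp_lTensor,
      LinearMap.comp_apply, lTensor_trans ψ, hw, hz, sub_self]
  -- componentwise
  have nat : ∀ (a b : ι) (h : G a →ₗ[R] G b) (q : (M →₀ R) ⊗[R] G a) (m : M),
      TensorProduct.finsuppScalarLeft R (G b) M (h.lTensor (M →₀ R) q) m =
        h (TensorProduct.finsuppScalarLeft R (G a) M q m) := by
    intro a b h q m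
    induction q using TensorProduct.induction_on with
    | zero => simp
    | tmul p c => simp
    | add p q hp hq => simp [hp, hq]
  have natA : ∀ (q : (M →₀ R) ⊗[R] G l) (m : M),
      TensorProduct.finsuppScalarLeft R A M ((g l).toLinearMap.lTensor (M →₀ R) q) m =
        g l (TensorProduct.finsuppScalarLeft R (G l) M q m) := by
    intro q m
    induction q using TensorProduct.induction_on with
    | zero => simp
    | tmul p c => simp
    | add p q hp hq => simp [hp, hq]
  let c := TensorProduct.finsuppScalarLeft R (G l) M d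
  obtain ⟨j, χ, hχ⟩ := hG.ker_finset c.support l (fun m => c m) fun m _ => by
    rw [← natA, hd]; simp
  refine ⟨j, χ.comp φ, ?_⟩
  have hd' : χ.1.toLinearMap.lTensor (M →₀ R) d = 0 := by
    apply (TensorProduct.finsuppScalarLeft R (G j) M).injective
    rw [map_zero]
    ext m
    rw [nat]
    by_cases hm : m ∈ c.support
    · exact hχ m hm
    · have : c m = 0 := Finsupp.notMem_support_iff.mp hm
      change χ.1 (c m) = 0
      rw [this, map_zero]
  have h2 := congrArg (π.rTensor (G j)) hd'
  simp only [d, map_sub, map_zero] at h2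
  rw [← LinearMap.comp_apply (π.rTensor (G j)), LinearMap.rTensor_comp_lTensor] at h2
  have h3 : π.rTensor (G j) (χ.1.toLinearMap.lTensor (M →₀ R)
      ((LinearMap.ker π).subtype.rTensor (G l) (ψ.1.toLinearMap.lTensor _ w))) = 0 := by
    rw [← LinearMap.comp_apply (χ.1.toLinearMap.lTensor (M →₀ R)), LinearMap.lTensor_comp_rTensor,
      ← LinearMap.rTensor_comp_lTensor, LinearMap.comp_apply, ← LinearMap.rTensor_comp_apply,
      LinearMap.comp_ker_subtype, LinearMap.rTensor_zero, LinearMap.zero_apply]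
  rw [h3, sub_zero, ← LinearMap.lTensor_comp_rTensor] at h2
  rw [LinearMap.comp_apply] at h2
  change (χ.1.toLinearMap ∘ₗ φ.1.toLinearMap).lTensor M (π.rTensor (G i) y) = 0
  rw [LinearMap.lTensor_comp_apply, ← LinearMap.comp_apply (φ.1.toLinearMap.lTensor M),
    LinearMap.lTensor_comp_rTensor, ← LinearMap.rTensor_comp_lTensor, LinearMap.comp_apply]
  exact h2

/-- Base change along `R → S`. -/
theorem baseChange (hG : IsColim g) (S : Type*) [CommRing S] [Algebra R S] :
    IsColim (R := S) (G := fun i => S ⊗[R] G i) (A := S ⊗[R] A)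
      (fun i => Algebra.TensorProduct.map (AlgHom.id S S) (g i)) := by
  let up : ∀ {i j : ι}, Trans g i j → Trans (R := S) (G := fun i => S ⊗[R] G i) (A := S ⊗[R] A)
      (fun i => Algebra.TensorProduct.map (AlgHom.id S S) (g i)) i j := fun {i j} φ =>
    ⟨Algebra.TensorProduct.map (AlgHom.id S S) φ.1, by
      rw [← Algebra.TensorProduct.map_comp, φ.2, AlgHom.comp_id]⟩
  refine ⟨fun z => ?_, fun i j => ?_, fun i x hx => ?_⟩
  · obtain ⟨i, x, rfl⟩ := hG.exists_tensor_eq S z
    refine ⟨i, x, ?_⟩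
    induction x using TensorProduct.induction_on with
    | zero => simp
    | tmul a b => simp
    | add a b ha hb => simp only [map_add, ha, hb]
  · obtain ⟨k, ⟨φ⟩, ⟨ψ⟩⟩ := hG.directed i j
    exact ⟨k, ⟨up φ⟩, ⟨up ψ⟩⟩
  · obtain ⟨j, φ, hφ⟩ := hG.exists_tensor_eq_zero S i x (by
      rw [← hx]
      clear hx
      induction x using TensorProduct.induction_on with
      | zero => simp
      | tmul a b => simp
      | add a b ha hb => simp only [map_add, ha, hb])
    refine ⟨j, up φ, ?_⟩
    rw [← hφ]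
    clear hx hφ
    induction x using TensorProduct.induction_on with
    | zero => simp
    | tmul a b => simp [up]
    | add a b ha hb => simp only [map_add, ha, hb]

/-- An element vanishing in `A ⊗ M` vanishes at some stage (the module on the right). -/
theorem exists_rTensor_eq_zero (hG : IsColim g) (M : Type*) [AddCommGroup M] [Module R M]
    (i : ι) (x : G i ⊗[R] M) (hx : (g i).toLinearMap.rTensor M x = 0) :
    ∃ j, ∃ φ : Trans g i j, φ.1.toLinearMap.rTensor M x = 0 := by
  obtain ⟨j, φ, hφ⟩ := hG.exists_tensor_eq_zero M i (TensorProduct.comm R (G i) M x) (by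
    have : ∀ x : G i ⊗[R] M, (g i).toLinearMap.lTensor M (TensorProduct.comm R (G i) M x) =
        TensorProduct.comm R A M ((g i).toLinearMap.rTensor M x) := by
      intro x
      induction x using TensorProduct.induction_on with
      | zero => simp
      | tmul a b => simp
      | add a b ha hb => simp only [map_add, ha, hb]
    rw [this, hx, map_zero])
  have h2 : ∀ x : G i ⊗[R] M, φ.1.toLinearMap.lTensor M (TensorProduct.comm R (G i) M x) =
      TensorProduct.comm R (G j) M (φ.1.toLinearMap.rTensor M x) := by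
    intro x
    induction x using TensorProduct.induction_on with
    | zero => simp
    | tmul a b => simp
    | add a b ha hb => simp only [map_add, ha, hb]
  rw [h2] at hφ
  exact ⟨j, φ, (TensorProduct.comm R (G j) M).injective (hφ.trans (map_zero _).symm)⟩

theorem exists_rTensor_eq (hG : IsColim g) (M : Type*) [AddCommGroup M] [Module R M]
    (z : A ⊗[R] M) : ∃ i, ∃ x : G i ⊗[R] M, (g i).toLinearMap.rTensor M x = z := by
  obtain ⟨i, x, hx⟩ := hG.exists_tensor_eq M (TensorProduct.comm R A M z)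
  refine ⟨i, (TensorProduct.comm R (G i) M).symm x, (TensorProduct.comm R A M).injective ?_⟩
  rw [← hx]
  clear hx
  induction x using TensorProduct.induction_on with
  | zero => simp
  | tmul a b => simp
  | add a b ha hb => simp only [map_add]; rw [ha, hb]

/-- Tensoring with an algebra on the right. -/
theorem tensorRight (hG : IsColim g) (S : Type*) [CommRing S] [Algebra R S] :
    IsColim (R := R) (G := fun i => G i ⊗[R] S) (A := A ⊗[R] S)
      (fun i => Algebra.TensorProduct.map (g i) (AlgHom.id R S)) := by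
  refine ⟨fun z => ?_, fun i j => ?_, fun i x hx => ?_⟩
  · obtain ⟨i, x, rfl⟩ := hG.exists_rTensor_eq S z
    refine ⟨i, x, ?_⟩
    induction x using TensorProduct.induction_on with
    | zero => simp
    | tmul a b => simp
    | add a b ha hb => simp only [map_add, ha, hb]
  · obtain ⟨k, ⟨φ⟩, ⟨ψ⟩⟩ := hG.directed i j
    exact ⟨k, ⟨⟨Algebra.TensorProduct.map φ.1 (AlgHom.id R S), by
        rw [← Algebra.TensorProduct.map_comp, φ.2, AlgHom.comp_id]⟩⟩,
      ⟨⟨Algebra.TensorProduct.map ψ.1 (AlgHom.id R S), by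
        rw [← Algebra.TensorProduct.map_comp, ψ.2, AlgHom.comp_id]⟩⟩⟩
  · obtain ⟨j, φ, hφ⟩ := hG.exists_rTensor_eq_zero S i x (by
      rw [← hx]
      clear hx
      induction x using TensorProduct.induction_on with
      | zero => simp
      | tmul a b => simp
      | add a b ha hb => simp only [map_add, ha, hb])
    refine ⟨j, ⟨Algebra.TensorProduct.map φ.1 (AlgHom.id R S), by
      rw [← Algebra.TensorProduct.map_comp, φ.2, AlgHom.comp_id]⟩, ?_⟩
    rw [← hφ]
    clear hx hφ
    induction x using TensorProduct.induction_on with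
    | zero => simp
    | tmul a b => simp
    | add a b ha hb => simp only [map_add, ha, hb]

end IsColim

end Groth.Agent.DirColim
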